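import Groth.Agent.IsoNatSepLib.Glue

/-!
# Transfer of extensions of isomorphisms along isomorphic maps of presheaves of classes
-/

set_option autoImplicit false
set_option linter.style.haveILetI false
set_option backward.isDefEq.respectTransparency false
set_option backward.isDefEq.respectTransparency.types false

universe u

open CategoryTheory CategoryTheory.Limits AlgebraicGeometry AlgSp FibCat FibLib AlgStLib IsoNat IsoNatLib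
open CategoryTheory.Functor (Fiber IsPreFibered IsStronglyCartesian)

noncomputable section

namespace IsoNatSepLib

variable {S : Scheme.{u}} {𝒳 𝒴 𝒳' 𝒴' : AlgSt.Cat S}

lemma fun_lift (f : 𝒳 ⥤ᵇ 𝒴) {A B : Over S} {g : A ⟶ B} {a b : 𝒳.obj} {k : a ⟶ b} (h : 𝒳.p.IsHomLift g k) :
    𝒴.p.IsHomLift g (f.map k) := by
  haveI := h
  exact f.preserves_isHomLift g k

/-- The image of an object of a fibre. -/
abbrev im (f : 𝒳 ⥤ᵇ 𝒴) {T : Over S} (x : 𝒳.p.Fiber T) : 𝒴.p.Fiber T :=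
  Fiber.mk (p := 𝒴.p) (a := f.obj x.1) ((f.w_obj x.1).trans x.2)

/-- The isomorphism `c₁⁻¹ ≫ c₂` over `V` extends over `T'`. -/
def Ext {T V : Over S} (x₁ x₂ : 𝒳.p.Fiber T) {xv : 𝒳.p.Fiber V} (c₁ : xv.1 ⟶ x₁.1) (c₂ : xv.1 ⟶ x₂.1)
    {T' V' : Over S} (h : T' ⟶ T) (j' : V' ⟶ T') (q : V' ⟶ V) : Prop :=
  ∃ (x : 𝒳.p.Fiber T') (w : 𝒳.p.Fiber V') (k₁ : x.1 ⟶ x₁.1) (k₂ : x.1 ⟶ x₂.1) (d : w.1 ⟶ x.1) (e : w.1 ⟶ xv.1),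
    𝒳.p.IsHomLift h k₁ ∧ 𝒳.p.IsHomLift h k₂ ∧ 𝒳.p.IsHomLift j' d ∧ 𝒳.p.IsHomLift q e ∧
      d ≫ k₁ = e ≫ c₁ ∧ d ≫ k₂ = e ≫ c₂

lemma exists_rep (φ : FIso 𝒳 𝒳') {T : Over S} (x' : 𝒳'.p.Fiber T) :
    ∃ x : 𝒳.p.Fiber T, φ.toEquiv T (cls x) = cls x' := by
  obtain ⟨x, hx⟩ := Quotient.exists_rep ((φ.toEquiv T).symm (cls x'))
  exact ⟨x, (congrArg (φ.toEquiv T) hx).trans (Equiv.apply_symm_apply _ _)⟩

lemma exists_rep' (φ : FIso 𝒳 𝒳') {T : Over S} (x : 𝒳.p.Fiber T) :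
    ∃ x' : 𝒳'.p.Fiber T, φ.toEquiv T (cls x) = cls x' :=
  let ⟨x', hx'⟩ := Quotient.exists_rep (φ.toEquiv T (cls x))
  ⟨x', hx'.symm⟩

variable [IsFibGrpd 𝒳.p] [IsFibGrpd 𝒴.p] [IsFibGrpd 𝒳'.p] [IsFibGrpd 𝒴'.p]

lemma exists_hom_back (φ : FIso 𝒳 𝒳') {T' T : Over S} (g : T' ⟶ T) {x' : 𝒳'.p.Fiber T'} {x : 𝒳'.p.Fiber T}
    (a : x'.1 ⟶ x.1) (ha : 𝒳'.p.IsHomLift g a) {y' : 𝒳.p.Fiber T'} {y : 𝒳.p.Fiber T}
    (h' : φ.toEquiv T' (cls y') = cls x') (h : φ.toEquiv T (cls y) = cls x) :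
    ∃ b : y'.1 ⟶ y.1, 𝒳.p.IsHomLift g b :=
  exists_hom_transport (IsoNatLib.symm φ) g a ha
    ((Equiv.symm_apply_eq _).2 h'.symm) ((Equiv.symm_apply_eq _).2 h.symm)

lemma vert_comp_iso {T : Over S} {a b : 𝒴.obj} {k : a ⟶ b} (h : 𝒴.p.IsHomLift (𝟙 T) k) :
    IsIso k ∧ ∀ [IsIso k], 𝒴.p.IsHomLift (𝟙 T) (inv k) := by
  haveI := h
  haveI : IsIso k := isIso_of_isHomLift 𝒴.p (𝟙 T) k
  exact ⟨‹_›, fun {_} => @IsHomLift.lift_id_inv _ _ _ _ 𝒴.p _ _ _ (asIso k) h⟩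

variable {f : 𝒳 ⥤ᵇ 𝒴} {f' : 𝒳' ⥤ᵇ 𝒴'}

/-- Extension problems for `f'` give extension problems for `f`, whose solutions give solutions back. -/
theorem transfer (φ : FIsoSq f f') (hX : Stk.IsStack (AlgSp.J S) 𝒳) (hX' : Stk.IsStack (AlgSp.J S) 𝒳')
    (hY' : Stk.IsStack (AlgSp.J S) 𝒴') {T V : Over S} (j : V ⟶ T) [IsOpenImmersion j.left]
    {x₁' x₂' : 𝒳'.p.Fiber T} {xv' : 𝒳'.p.Fiber V} (c₁' : xv'.1 ⟶ x₁'.1) (c₂' : xv'.1 ⟶ x₂'.1)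
    (hc₁' : 𝒳'.p.IsHomLift j c₁') (hc₂' : 𝒳'.p.IsHomLift j c₂') (β' : f'.obj x₁'.1 ⟶ f'.obj x₂'.1)
    (hβ' : 𝒴'.p.IsHomLift (𝟙 T) β') (hrel' : f'.map c₁' ≫ β' = f'.map c₂') :
    ∃ (x₁ x₂ : 𝒳.p.Fiber T) (xv : 𝒳.p.Fiber V) (c₁ : xv.1 ⟶ x₁.1) (c₂ : xv.1 ⟶ x₂.1)
      (β : f.obj x₁.1 ⟶ f.obj x₂.1), 𝒳.p.IsHomLift j c₁ ∧ 𝒳.p.IsHomLift j c₂ ∧ 𝒴.p.IsHomLift (𝟙 T) β ∧
      f.map c₁ ≫ β = f.map c₂ ∧ φ.src.toEquiv T (cls x₁) = cls x₁' ∧ φ.src.toEquiv T (cls x₂) = cls x₂' ∧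
      ∀ {T' V' : Over S} (h : T' ⟶ T) (j' : V' ⟶ T') (q : V' ⟶ V), IsOpenImmersion j'.left →
        j' ≫ h = q ≫ j → Ext x₁ x₂ c₁ c₂ h j' q → Ext x₁' x₂' c₁' c₂' h j' q := by
  haveI : Mono j := (Over.forget S).mono_of_mono_map (inferInstanceAs (Mono j.left))
  obtain ⟨P⟩ := nonempty_dbl j
  obtain ⟨z', K₁', K₂', hK₁', hK₂', hK'⟩ := P.glueObj hX' hc₁' hc₂'
  obtain ⟨π, hπ₁, hπ₂⟩ := P.desc T (𝟙 T) (𝟙 T) rfl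
  -- the trivialisation of the image of the glued object
  obtain ⟨hi, hiv⟩ := vert_comp_iso hβ'
  haveI := hi
  have hrel'' : f'.map c₂' ≫ inv β' = f'.map c₁' := by rw [← hrel', Category.assoc, IsIso.hom_inv_id, Category.comp_id]
  obtain ⟨m', hm', -, -⟩ := P.glueHom (x₁ := im f' x₁') (x₂ := im f' x₂') (xv := im f' xv') (f'.map c₁')
    (f'.map c₂') hY' (fun_lift f' hc₁') (fun_lift f' hc₂') (z := im f' z') (k₁ := f'.map K₁') (k₂ := f'.map K₂')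
    (fun_lift f' hK₁') (fun_lift f' hK₂')
    (by rw [← f'.toFunctor.map_comp, hK', f'.toFunctor.map_comp])
    (y := im f' x₁') (π := π) (𝟙 _) (inv β')
    (lift_congr hπ₁.symm (IsHomLift.id (im f' x₁').2)) (lift_congr hπ₂.symm hiv)
    (by rw [hrel'']; exact Category.comp_id _)
  -- the transfer
  obtain ⟨x₁, hx₁⟩ := exists_rep φ.src x₁'
  obtain ⟨x₂, hx₂⟩ := exists_rep φ.src x₂'
  obtain ⟨z, hz⟩ := exists_rep φ.src z'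
  have hcomm : ∀ {Q : Over S} {x : 𝒳.p.Fiber Q} {x' : 𝒳'.p.Fiber Q}, φ.src.toEquiv Q (cls x) = cls x' →
      φ.tgt.toEquiv Q (cls (im f x)) = cls (im f' x') := fun {Q x x'} e => by
    rw [show cls (im f' x') = mapCls f' Q (cls x') from rfl, ← e, ← φ.comm]; rfl
  obtain ⟨K₁, hK₁⟩ := exists_hom_back φ.src P.ι₁ K₁' hK₁' hx₁ hz
  obtain ⟨K₂, hK₂⟩ := exists_hom_back φ.src P.ι₂ K₂' hK₂' hx₂ hz
  obtain ⟨m, hm⟩ := exists_hom_back φ.tgt π (x' := im f' z') (x := im f' x₁') m' hm' (hcomm hz) (hcomm hx₁)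
  obtain ⟨xv, c₁, hc₁⟩ := exists_pullback j x₁
  obtain ⟨c₂, hc₂, hK⟩ := exists_fac K₂ hK₂ (c₁ ≫ K₁) (lift_congr P.comm (comp_lift hc₁ hK₁))
  have hu₁ : 𝒴.p.IsHomLift (𝟙 T) (f.map K₁ ≫ m) := lift_congr hπ₁ (comp_lift (fun_lift f hK₁) hm)
  have hu₂ : 𝒴.p.IsHomLift (𝟙 T) (f.map K₂ ≫ m) := lift_congr hπ₂ (comp_lift (fun_lift f hK₂) hm)
  obtain ⟨hi₂, hiv₂⟩ := vert_comp_iso hu₂
  haveI := hi₂
  refine ⟨x₁, x₂, xv, c₁, c₂, (f.map K₁ ≫ m) ≫ inv (f.map K₂ ≫ m), hc₁, hc₂,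
    lift_congr (Category.id_comp _) (comp_lift hu₁ hiv₂), ?_, hx₁, hx₂, ?_⟩
  · rw [← Category.assoc, IsIso.comp_inv_eq, ← Category.assoc, ← Category.assoc, ← f.toFunctor.map_comp,
      ← f.toFunctor.map_comp, hK]
  intro T' V' h j' q hj' hcj hext
  obtain ⟨x, w, k₁, k₂, d, e, hk₁, hk₂, hd, he, hd₁, hd₂⟩ := hext
  haveI := hj'
  haveI : Mono j' := (Over.forget S).mono_of_mono_map (inferInstanceAs (Mono j'.left))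
  obtain ⟨P'⟩ := nonempty_dbl j'
  obtain ⟨sD, hs₁, hs₂⟩ := P'.desc P.D (h ≫ P.ι₁) (h ≫ P.ι₂)
    (by rw [← Category.assoc, ← Category.assoc, hcj, Category.assoc, Category.assoc, P.comm])
  obtain ⟨π', hπ₁', hπ₂'⟩ := P'.desc T' (𝟙 T') (𝟙 T') rfl
  obtain ⟨zD, p, hp⟩ := exists_pullback sD z
  obtain ⟨l₁, hl₁, el₁⟩ := exists_fac p hp (k₁ ≫ K₁) (lift_congr hs₁.symm (comp_lift hk₁ hK₁))
  obtain ⟨l₂, hl₂, el₂⟩ := exists_fac p hp (k₂ ≫ K₂) (lift_congr hs₂.symm (comp_lift hk₂ hK₂))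
  have hdl : d ≫ l₁ = d ≫ l₂ := eq_of_fac hp (comp_lift hd hl₁) (lift_congr P'.comm.symm (comp_lift hd hl₂)) (by
    rw [Category.assoc, Category.assoc, el₁, el₂, ← Category.assoc, ← Category.assoc, hd₁, hd₂, Category.assoc,
      Category.assoc, hK])
  obtain ⟨n, hn, -, -⟩ := P'.glueHom (x₁ := x) (x₂ := x) (xv := w) d d hX hd hd hl₁ hl₂ hdl
    (y := x) (π := π') (𝟙 _) (𝟙 _) (lift_congr hπ₁'.symm (IsHomLift.id x.2))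
    (lift_congr hπ₂'.symm (IsHomLift.id x.2)) rfl
  -- back
  obtain ⟨zD', hzD'⟩ := exists_rep' φ.src zD
  obtain ⟨x', hx'⟩ := exists_rep' φ.src x
  obtain ⟨p', hp'⟩ := exists_hom_transport φ.src sD p hp hzD' hz
  obtain ⟨n', hn'⟩ := exists_hom_transport φ.src π' n hn hzD' hx'
  have sec : ∀ (ι : T' ⟶ P'.D), ι ≫ π' = 𝟙 T' →
      ∃ s : x'.1 ⟶ zD'.1, 𝒳'.p.IsHomLift ι s ∧ s ≫ n' = 𝟙 _ := fun ι hι =>
    exists_fac n' hn' (𝟙 _) (lift_congr hι.symm (IsHomLift.id x'.2))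
  obtain ⟨s₁, hsl₁, es₁⟩ := sec P'.ι₁ hπ₁'
  obtain ⟨s₂, hsl₂, es₂⟩ := sec P'.ι₂ hπ₂'
  obtain ⟨k₁', hk₁', ek₁⟩ := exists_fac K₁' hK₁' (s₁ ≫ p') (lift_congr hs₁ (comp_lift hsl₁ hp'))
  obtain ⟨k₂', hk₂', ek₂⟩ := exists_fac K₂' hK₂' (s₂ ≫ p') (lift_congr hs₂ (comp_lift hsl₂ hp'))
  obtain ⟨w', d', hd'⟩ := exists_pullback j' x'
  obtain ⟨e', he', ee'⟩ := exists_fac c₁' hc₁' (d' ≫ k₁') (lift_congr hcj (comp_lift hd' hk₁'))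
  refine ⟨x', w', k₁', k₂', d', e', hk₁', hk₂', hd', he', ee'.symm, ?_⟩
  have hds : d' ≫ s₁ = d' ≫ s₂ := eq_of_fac hn' (comp_lift hd' hsl₁)
    (lift_congr P'.comm.symm (comp_lift hd' hsl₂)) (by rw [Category.assoc, Category.assoc, es₁, es₂])
  refine eq_of_fac hK₂' (comp_lift hd' hk₂') (lift_congr hcj.symm (comp_lift he' hc₂')) ?_
  rw [Category.assoc, ek₂, ← Category.assoc, ← hds, Category.assoc, ← ek₁, ← Category.assoc, ← ee',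
    Category.assoc, hK', Category.assoc]

end IsoNatSepLib
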