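import Groth.Agent.IsoNatClean.Ops
import Groth.Agent.IsoNatClean.Glue
import Groth.Agent.IsoNatLib.Cls
import Groth.Agent.StackSecLib.Desc

/-!
# Objects and morphisms over a scheme with an open subscheme doubled
-/

set_option autoImplicit false
set_option linter.style.haveILetI false
set_option backward.isDefEq.respectTransparency false
set_option backward.isDefEq.respectTransparency.types false

universe u

open CategoryTheory CategoryTheory.Limits AlgebraicGeometry AlgSp FibCat FibLib AlgStLib IsoNat IsoNatLib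
open CategoryTheory.Functor (Fiber IsPreFibered IsStronglyCartesian)

noncomputable section

namespace IsoNatSepLib

variable {S : Scheme.{u}} {𝒳 : AlgSt.Cat S}

lemma comp_lift {A B C : Over S} {f : A ⟶ B} {g : B ⟶ C} {a b c : 𝒳.obj} {φ : a ⟶ b} {ψ : b ⟶ c}
    (hφ : 𝒳.p.IsHomLift f φ) (hψ : 𝒳.p.IsHomLift g ψ) : 𝒳.p.IsHomLift (f ≫ g) (φ ≫ ψ) := by
  haveI := hφ; haveI := hψ; infer_instance

lemma lift_congr {A B : Over S} {f f' : A ⟶ B} (e : f = f') {a b : 𝒳.obj} {φ : a ⟶ b}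
    (h : 𝒳.p.IsHomLift f φ) : 𝒳.p.IsHomLift f' φ := e ▸ h

variable [IsFibGrpd 𝒳.p]

lemma exists_fac {A B C : Over S} {g : A ⟶ B} {f : B ⟶ C} {a b c : 𝒳.obj} (φ : b ⟶ c) (hφ : 𝒳.p.IsHomLift f φ)
    (ψ : a ⟶ c) (hψ : 𝒳.p.IsHomLift (g ≫ f) ψ) : ∃ θ : a ⟶ b, 𝒳.p.IsHomLift g θ ∧ θ ≫ φ = ψ := by
  haveI := hφ; haveI := hψ
  exact ⟨IsStronglyCartesian.map 𝒳.p f φ (g := g) (f' := g ≫ f) rfl ψ,
    IsStronglyCartesian.map_isHomLift 𝒳.p f φ (g := g) (f' := g ≫ f) rfl ψ,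
    IsStronglyCartesian.fac 𝒳.p f φ (g := g) (f' := g ≫ f) rfl ψ⟩

lemma eq_of_fac {A B C : Over S} {g : A ⟶ B} {f : B ⟶ C} {a b c : 𝒳.obj} {φ : b ⟶ c} (hφ : 𝒳.p.IsHomLift f φ)
    {θ θ' : a ⟶ b} (h : 𝒳.p.IsHomLift g θ) (h' : 𝒳.p.IsHomLift g θ') (e : θ ≫ φ = θ' ≫ φ) : θ = θ' := by
  haveI := hφ; haveI := h; haveI := h'
  exact IsStronglyCartesian.ext 𝒳.p f φ g e

lemma mono_cancel {A B : Over S} {f : A ⟶ B} [Mono f] {a b c : 𝒳.obj} {φ : b ⟶ c} (hφ : 𝒳.p.IsHomLift f φ)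
    {θ θ' : a ⟶ b} (e : θ ≫ φ = θ' ≫ φ) : θ = θ' := by
  haveI := hφ
  haveI : Mono (𝒳.p.map φ) := by rw [IsHomLift.fac' 𝒳.p f φ]; infer_instance
  exact IsoNatClean.eq_of_comp_eq φ e

variable {T V : Over S}

/-- A scheme covered by two copies of `T` meeting in `V`. -/
structure Dbl (j : V ⟶ T) where
  /-- the glued scheme -/
  D : Over S
  /-- the first copy -/
  ι₁ : T ⟶ D
  /-- the second copy -/
  ι₂ : T ⟶ D
  [op₁ : IsOpenImmersion ι₁.left]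
  [op₂ : IsOpenImmersion ι₂.left]
  comm : j ≫ ι₁ = j ≫ ι₂
  cover : ∀ x : D.left, x ∈ Set.range ι₁.left ∨ x ∈ Set.range ι₂.left
  lim : ∀ (Z : Over S) (a b : Z ⟶ T), a ≫ ι₁ = b ≫ ι₂ → ∃ c : Z ⟶ V, c ≫ j = a ∧ c ≫ j = b
  desc : ∀ (Z : Over S) (a b : T ⟶ Z), j ≫ a = j ≫ b → ∃ m : D ⟶ Z, ι₁ ≫ m = a ∧ ι₂ ≫ m = b

attribute [instance] Dbl.op₁ Dbl.op₂

omit [IsFibGrpd 𝒳.p] in
/-- Doubling exists. -/
theorem nonempty_dbl (j : V ⟶ T) [IsOpenImmersion j.left] : Nonempty (Dbl j) := by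
  let D : Over S := Over.mk (pushout.desc T.hom T.hom rfl : pushout j.left j.left ⟶ S)
  let ι₁ : T ⟶ D := Over.homMk (pushout.inl j.left j.left) (pushout.inl_desc _ _ _)
  let ι₂ : T ⟶ D := Over.homMk (pushout.inr j.left j.left) (pushout.inr_desc _ _ _)
  haveI : IsOpenImmersion (pushout.inl j.left j.left) :=
    inferInstanceAs (IsOpenImmersion (colimit.ι (span j.left j.left) WalkingSpan.left))
  haveI : IsOpenImmersion (pushout.inr j.left j.left) :=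
    inferInstanceAs (IsOpenImmersion (colimit.ι (span j.left j.left) WalkingSpan.right))
  have hmem : ∀ {x y : T.left}, pushout.inl j.left j.left x = pushout.inr j.left j.left y →
      x ∈ Set.range j.left := by
    intro x y h
    obtain ⟨k, fi, fj, z, hz, -⟩ := (Scheme.IsLocallyDirected.ι_eq_ι_iff (span j.left j.left)
      (i := WalkingSpan.left) (j := WalkingSpan.right)).1 h
    rcases k with _ | (_ | _)
    · obtain rfl : fi = WalkingSpan.Hom.fst := Subsingleton.elim _ _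
      exact ⟨z, hz⟩
    · exact nomatch fj
    · exact nomatch fi
  haveI h₁ : IsOpenImmersion ι₁.left := ‹IsOpenImmersion (pushout.inl j.left j.left)›
  haveI h₂ : IsOpenImmersion ι₂.left := ‹IsOpenImmersion (pushout.inr j.left j.left)›
  refine ⟨{ D := D, ι₁ := ι₁, ι₂ := ι₂, comm := Over.OverMorphism.ext pushout.condition
            cover := fun x => ?_, lim := fun Z a b h => ?_, desc := fun Z a b h => ?_ }⟩
  · obtain ⟨i, xi, rfl⟩ := Scheme.IsLocallyDirected.ι_jointly_surjective (span j.left j.left) x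
    rcases i with _ | (_ | _)
    · refine Or.inl ⟨j.left xi, ?_⟩
      change pushout.inl j.left j.left (j.left xi) = _
      rw [← Scheme.Hom.comp_apply]
      exact congrArg (fun f => f xi) (colimit.w (span j.left j.left) (WalkingSpan.Hom.fst))
    · exact Or.inl ⟨xi, rfl⟩
    · exact Or.inr ⟨xi, rfl⟩
  · have h' : a.left ≫ pushout.inl j.left j.left = b.left ≫ pushout.inr j.left j.left :=
      congrArg (fun m => m.left) h
    have hle : Set.range a.left ⊆ Set.range j.left := by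
      rintro _ ⟨t, rfl⟩
      exact hmem (y := b.left t) (by rw [← Scheme.Hom.comp_apply, h', Scheme.Hom.comp_apply])
    have hc : IsOpenImmersion.lift j.left a.left hle ≫ j.left = a.left := IsOpenImmersion.lift_fac _ _ _
    let c : Z ⟶ V := Over.homMk (IsOpenImmersion.lift j.left a.left hle)
      (by rw [← Over.w j, ← Category.assoc, hc, Over.w a])
    refine ⟨c, Over.OverMorphism.ext hc, Over.OverMorphism.ext ((cancel_mono (pushout.inr j.left j.left)).1 ?_)⟩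
    change (_ ≫ j.left) ≫ _ = _
    rw [Category.assoc, ← pushout.condition, ← Category.assoc, ← h']
    exact congrArg (· ≫ _) hc
  · have h' : j.left ≫ a.left = j.left ≫ b.left := congrArg (fun m => m.left) h
    exact ⟨Over.homMk (pushout.desc a.left b.left h') (pushout.hom_ext
        (by rw [pushout.inl_desc_assoc, Over.w a]; exact (pushout.inl_desc _ _ _).symm)
        (by rw [pushout.inr_desc_assoc, Over.w b]; exact (pushout.inr_desc _ _ _).symm)),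
      Over.OverMorphism.ext (pushout.inl_desc _ _ _), Over.OverMorphism.ext (pushout.inr_desc _ _ _)⟩

variable {j : V ⟶ T} (P : Dbl j)

namespace Dbl

/-- The two copies, indexed. -/
def inc : Bool → (T ⟶ P.D)
  | true => P.ι₁
  | false => P.ι₂

instance isOpenImmersion_inc (b : Bool) : IsOpenImmersion (P.inc b).left := by
  cases b
  · exact P.op₂
  · exact P.op₁

instance mono_inc (b : Bool) : Mono (P.inc b) :=
  (Over.forget S).mono_of_mono_map (inferInstanceAs (Mono (P.inc b).left))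

omit [IsFibGrpd 𝒳.p] in
lemma inc_cover (x : P.D.left) : ∃ b : ULift.{u} Bool, x ∈ Set.range (P.inc b.down).left :=
  (P.cover x).elim (fun h => ⟨⟨true⟩, h⟩) fun h => ⟨⟨false⟩, h⟩

variable {x₁ x₂ : 𝒳.p.Fiber T} {xv : 𝒳.p.Fiber V} (c₁ : xv.1 ⟶ x₁.1) (c₂ : xv.1 ⟶ x₂.1)

/-- A morphism out of a glued object. -/
theorem glueHom (hst : Stk.IsStack (AlgSp.J S) 𝒳) [Mono j] (hc₁ : 𝒳.p.IsHomLift j c₁)
    (hc₂ : 𝒳.p.IsHomLift j c₂) {z : 𝒳.p.Fiber P.D} {k₁ : x₁.1 ⟶ z.1} {k₂ : x₂.1 ⟶ z.1}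
    (hk₁ : 𝒳.p.IsHomLift P.ι₁ k₁) (hk₂ : 𝒳.p.IsHomLift P.ι₂ k₂) (hk : c₁ ≫ k₁ = c₂ ≫ k₂)
    {Q : Over S} {π : P.D ⟶ Q} {y : 𝒳.p.Fiber Q} (g₁ : x₁.1 ⟶ y.1) (g₂ : x₂.1 ⟶ y.1)
    (hg₁ : 𝒳.p.IsHomLift (P.ι₁ ≫ π) g₁) (hg₂ : 𝒳.p.IsHomLift (P.ι₂ ≫ π) g₂) (hg : c₁ ≫ g₁ = c₂ ≫ g₂) :
    ∃ m : z.1 ⟶ y.1, 𝒳.p.IsHomLift π m ∧ k₁ ≫ m = g₁ ∧ k₂ ≫ m = g₂ := by
  obtain ⟨yD, py, hpy⟩ := exists_pullback π y
  obtain ⟨f₁, hf₁, ef₁⟩ := exists_fac py hpy g₁ hg₁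
  obtain ⟨f₂, hf₂, ef₂⟩ := exists_fac py hpy g₂ hg₂
  have hf : c₁ ≫ f₁ = c₂ ≫ f₂ := eq_of_fac hpy (comp_lift hc₁ hf₁)
    (lift_congr P.comm.symm (comp_lift hc₂ hf₂)) (by rw [Category.assoc, Category.assoc, ef₁, ef₂, hg])
  let Pk : ULift.{u} Bool → 𝒳.obj := fun i => match i with
    | ⟨true⟩ => x₁.1
    | ⟨false⟩ => x₂.1
  let p : ∀ i, Pk i ⟶ z.1 := fun i => match i with
    | ⟨true⟩ => k₁
    | ⟨false⟩ => k₂
  let f : ∀ i, Pk i ⟶ yD.1 := fun i => match i with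
    | ⟨true⟩ => f₁
    | ⟨false⟩ => f₂
  have hp : ∀ i, 𝒳.p.IsHomLift (P.inc i.down) (p i) := fun i => match i with
    | ⟨true⟩ => hk₁
    | ⟨false⟩ => hk₂
  have hfl : ∀ i, 𝒳.p.IsHomLift (P.inc i.down) (f i) := fun i => match i with
    | ⟨true⟩ => hf₁
    | ⟨false⟩ => hf₂
  have cross : ∀ {a : 𝒳.obj} (u : a ⟶ x₁.1) (v : a ⟶ x₂.1), u ≫ k₁ = v ≫ k₂ → u ≫ f₁ = v ≫ f₂ := by
    intro a u v e
    have hw₁ : 𝒳.p.obj x₁.1 = T := x₁.2
    have hw₂ : 𝒳.p.obj x₂.1 = T := x₂.2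
    let bu : 𝒳.p.obj a ⟶ T := 𝒳.p.map u ≫ eqToHom hw₁
    let bv : 𝒳.p.obj a ⟶ T := 𝒳.p.map v ≫ eqToHom hw₂
    have lu : 𝒳.p.IsHomLift bu u := IsHomLift.of_fac' 𝒳.p bu u rfl hw₁ (by simp [bu])
    have lv : 𝒳.p.IsHomLift bv v := IsHomLift.of_fac' 𝒳.p bv v rfl hw₂ (by simp [bv])
    have h1 : 𝒳.p.IsHomLift (bu ≫ P.ι₁) (u ≫ k₁) := comp_lift lu hk₁
    have h2 : 𝒳.p.IsHomLift (bv ≫ P.ι₂) (v ≫ k₂) := comp_lift lv hk₂
    rw [e] at h1
    obtain ⟨c, hcu, hcv⟩ := P.lim _ bu bv (IsoNatLib.eq_of_lifts 𝒳.p _ h1 h2)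
    obtain ⟨θ, hθ, eθ⟩ := exists_fac c₁ hc₁ u (lift_congr hcu.symm lu)
    obtain ⟨θ', hθ', eθ'⟩ := exists_fac c₂ hc₂ v (lift_congr hcv.symm lv)
    obtain rfl : θ = θ' := eq_of_fac (lift_congr P.comm.symm (comp_lift hc₂ hk₂)) hθ hθ' (by
      conv_lhs => rw [← hk, ← Category.assoc, eθ]
      rw [← Category.assoc, eθ', e])
    rw [← eθ, ← eθ', Category.assoc, Category.assoc, hf]
  obtain ⟨m, hm, hme⟩ := IsoNatClean.exists_hom_of_pieces hst z yD (fun i : ULift.{u} Bool => P.inc i.down)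
    (fun _ => inferInstance) (fun _ => inferInstance) P.inc_cover p hp f hfl (fun a i i' u v e => by
      rcases i with ⟨_ | _⟩ <;> rcases i' with ⟨_ | _⟩
      · exact congrArg (· ≫ f₂) (mono_cancel (f := P.inc false) hk₂ e)
      · exact (cross v u e.symm).symm
      · exact cross u v e
      · exact congrArg (· ≫ f₁) (mono_cancel (f := P.inc true) hk₁ e))
  refine ⟨m ≫ py, lift_congr (Category.id_comp π) (comp_lift hm hpy), ?_, ?_⟩
  · rw [← Category.assoc, show k₁ ≫ m = f₁ from hme ⟨true⟩, ef₁]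
  · rw [← Category.assoc, show k₂ ≫ m = f₂ from hme ⟨false⟩, ef₂]

variable (x₁ x₂) in
/-- The two objects, indexed. -/
def pick : Bool → 𝒳.p.Fiber T
  | true => x₁
  | false => x₂

/-- The relation of morphisms into the two objects through the overlap. -/
def Rel : ∀ (i k : Bool) {a : 𝒳.obj}, (a ⟶ (pick x₁ x₂ i).1) → (a ⟶ (pick x₁ x₂ k).1) → Prop
  | true, true, _, s, t => s = t
  | false, false, _, s, t => s = t
  | true, false, _, s, t => ∃ u, u ≫ c₁ = s ∧ u ≫ c₂ = t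
  | false, true, _, s, t => ∃ u, u ≫ c₂ = s ∧ u ≫ c₁ = t

variable {c₁ c₂}

omit [IsFibGrpd 𝒳.p] in
lemma Rel.comp {i k : Bool} {a b : 𝒳.obj} (v : b ⟶ a) {s : a ⟶ (pick x₁ x₂ i).1} {t : a ⟶ (pick x₁ x₂ k).1}
    (h : Rel c₁ c₂ i k s t) : Rel c₁ c₂ i k (v ≫ s) (v ≫ t) := by
  cases i <;> cases k
  · exact congrArg (v ≫ ·) h
  · obtain ⟨u, hu, hu'⟩ := h
    exact ⟨v ≫ u, by rw [Category.assoc, hu], by rw [Category.assoc, hu']⟩
  · obtain ⟨u, hu, hu'⟩ := h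
    exact ⟨v ≫ u, by rw [Category.assoc, hu], by rw [Category.assoc, hu']⟩
  · exact congrArg (v ≫ ·) h

lemma Rel.unique [Mono j] (hc₁ : 𝒳.p.IsHomLift j c₁) (hc₂ : 𝒳.p.IsHomLift j c₂) {i k : Bool} {a : 𝒳.obj}
    {s : a ⟶ (pick x₁ x₂ i).1} {t t' : a ⟶ (pick x₁ x₂ k).1} (h : Rel c₁ c₂ i k s t)
    (h' : Rel c₁ c₂ i k s t') : t = t' := by
  cases i <;> cases k
  · exact h.symm.trans h'
  · obtain ⟨u, hu, hu'⟩ := h
    obtain ⟨v, hv, hv'⟩ := h'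
    rw [← hu', ← hv', mono_cancel hc₂ (hu.trans hv.symm)]
  · obtain ⟨u, hu, hu'⟩ := h
    obtain ⟨v, hv, hv'⟩ := h'
    rw [← hu', ← hv', mono_cancel hc₁ (hu.trans hv.symm)]
  · exact h.symm.trans h'

lemma Rel.trans [Mono j] (hc₁ : 𝒳.p.IsHomLift j c₁) (hc₂ : 𝒳.p.IsHomLift j c₂) {i k l : Bool} {a : 𝒳.obj}
    {s : a ⟶ (pick x₁ x₂ i).1} {t : a ⟶ (pick x₁ x₂ k).1} {t' : a ⟶ (pick x₁ x₂ l).1}
    (h : Rel c₁ c₂ i k s t) (h' : Rel c₁ c₂ k l t t') : Rel c₁ c₂ i l s t' := by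
  cases i <;> cases k <;> cases l <;> simp only [Rel] at h h' ⊢
  · exact h.trans h'
  · subst h; exact h'
  · obtain ⟨u, hu, hu'⟩ := h
    obtain ⟨v, hv, hv'⟩ := h'
    rw [← hu, ← hv', mono_cancel hc₁ (hu'.trans hv.symm)]
  · subst h'; exact h
  · subst h'; exact h
  · obtain ⟨u, hu, hu'⟩ := h
    obtain ⟨v, hv, hv'⟩ := h'
    rw [← hu, ← hv', mono_cancel hc₂ (hu'.trans hv.symm)]
  · subst h; exact h'
  · exact h.trans h'

include P in
lemma Rel.exists' (hc₁ : 𝒳.p.IsHomLift j c₁) (hc₂ : 𝒳.p.IsHomLift j c₂) {i k : Bool} {Z : Over S}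
    (w w' : Z ⟶ T) (e : w ≫ P.inc i = w' ≫ P.inc k) {a : 𝒳.obj} (s : a ⟶ (pick x₁ x₂ i).1)
    (hs : 𝒳.p.IsHomLift w s) : ∃ t, 𝒳.p.IsHomLift w' t ∧ Rel c₁ c₂ i k s t := by
  cases i <;> cases k
  · exact ⟨s, lift_congr ((cancel_mono (P.inc false)).1 e) hs, rfl⟩
  · obtain ⟨c, h', h⟩ := P.lim Z w' w e.symm
    obtain ⟨u, hu, eu⟩ := exists_fac c₂ hc₂ s (lift_congr h.symm hs)
    exact ⟨u ≫ c₁, lift_congr h' (comp_lift hu hc₁), u, eu, rfl⟩
  · obtain ⟨c, h, h'⟩ := P.lim Z w w' e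
    obtain ⟨u, hu, eu⟩ := exists_fac c₁ hc₁ s (lift_congr h.symm hs)
    exact ⟨u ≫ c₂, lift_congr h' (comp_lift hu hc₂), u, eu, rfl⟩
  · exact ⟨s, lift_congr ((cancel_mono (P.inc true)).1 e) hs, rfl⟩

/-- A glued object. -/
theorem glueObj (hst : Stk.IsStack (AlgSp.J S) 𝒳) [Mono j] (hc₁ : 𝒳.p.IsHomLift j c₁)
    (hc₂ : 𝒳.p.IsHomLift j c₂) :
    ∃ (z : 𝒳.p.Fiber P.D) (k₁ : x₁.1 ⟶ z.1) (k₂ : x₂.1 ⟶ z.1),
      𝒳.p.IsHomLift P.ι₁ k₁ ∧ 𝒳.p.IsHomLift P.ι₂ k₂ ∧ c₁ ≫ k₁ = c₂ ≫ k₂ := by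
  let pm : ∀ (i : Bool) {Z : Over S} (w : Z ⟶ T),
      IsPreFibered.pullbackObj (pick x₁ x₂ i).2 w ⟶ (pick x₁ x₂ i).1 :=
    fun i _ w => IsPreFibered.pullbackMap (pick x₁ x₂ i).2 w
  have hpm : ∀ (i : Bool) {Z : Over S} (w : Z ⟶ T), 𝒳.p.IsHomLift w (pm i w) :=
    fun i _ w => inferInstanceAs (𝒳.p.IsHomLift w (IsPreFibered.pullbackMap (pick x₁ x₂ i).2 w))
  have key : ∀ {Z : Over S} (i k : Bool) (w w' : Z ⟶ T), w ≫ P.inc i = w' ≫ P.inc k →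
      ∃ θ : (ofPoint (pick x₁ x₂ i)).obj (Over.mk w) ⟶ (ofPoint (pick x₁ x₂ k)).obj (Over.mk w'),
        𝒳.p.IsHomLift (𝟙 Z) θ ∧ Rel c₁ c₂ i k (pm i w) (θ ≫ pm k w') := by
    intro Z i k w w' e
    obtain ⟨t, ht, hr⟩ := Rel.exists' P hc₁ hc₂ w w' e (pm i w) (hpm i w)
    obtain ⟨θ, hθ, eθ⟩ := exists_fac (pm k w') (hpm k w') t (lift_congr (Category.id_comp w').symm ht)
    exact ⟨θ, hθ, eθ ▸ hr⟩
  choose θ hθ hθr using @key
  let D : StackSecLib.Datum 𝒳 (W := fun _ : Bool => T) P.inc :=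
    { X := fun i => ofPoint (pick x₁ x₂ i)
      φ := fun {Z i k} w w' e => θ i k w w' e
      φ_lift := fun {Z i k} w w' e => hθ i k w w' e
      φ_nat := fun {Z Z' i k} m w w' e => by
        let M := (ofPoint (pick x₁ x₂ i)).map (Over.homMk m rfl : Over.mk (m ≫ w) ⟶ Over.mk w)
        let M' := (ofPoint (pick x₁ x₂ k)).map (Over.homMk m rfl : Over.mk (m ≫ w') ⟶ Over.mk w')
        have hM : 𝒳.p.IsHomLift m M := lift_map _ (Over.homMk m rfl : Over.mk (m ≫ w) ⟶ Over.mk w)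
        have hM' : 𝒳.p.IsHomLift m M' := lift_map _ (Over.homMk m rfl : Over.mk (m ≫ w') ⟶ Over.mk w')
        refine eq_of_fac (hpm k w') (lift_congr (Category.id_comp m) (comp_lift (hθ i k _ _ _) hM'))
          (lift_congr (Category.comp_id m) (comp_lift hM (hθ i k _ _ _))) ?_
        refine Rel.unique (i := i) (s := pm i (m ≫ w)) hc₁ hc₂ ?_ ?_
        · rw [Category.assoc, show M' ≫ pm k w' = pm k (m ≫ w') from pbMap_fac _ m rfl]
          exact hθr i k _ _ _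
        · rw [Category.assoc, ← show M ≫ pm i w = pm i (m ≫ w) from pbMap_fac _ m rfl]
          exact (hθr i k w w' e).comp M
      φ_trans := fun {Z i k l} w w' w'' e e' => by
        refine eq_of_fac (hpm l w'') (lift_congr (Category.id_comp _) (comp_lift (hθ i k _ _ _) (hθ k l _ _ _)))
          (hθ i l _ _ _) ?_
        refine Rel.unique (i := i) (s := pm i w) hc₁ hc₂ ?_ (hθr i l _ _ _)
        rw [Category.assoc]
        exact Rel.trans hc₁ hc₂ (hθr i k w w' e) ((hθr k l w' w'' e').comp _) }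
  have hR : StackSecLib.famSieve (W := fun _ : Bool => T) P.inc ∈ AlgSp.J S P.D := by
    refine GrothendieckTopology.superset_covering _ ?_ (AlgSpLib.ofArrows_mem_J
      (fun i : ULift.{u} Bool => P.inc i.down) (fun _ => inferInstance) (fun _ => inferInstance) P.inc_cover)
    rintro Z g ⟨W', e, f', hf', rfl⟩
    obtain ⟨i⟩ := hf'
    exact ⟨i.down, e, rfl⟩
  obtain ⟨K, ψ, hψ⟩ := D.exists_desc (hst.2 _ hR)
  let z : 𝒳.p.Fiber P.D := Fiber.mk (p := 𝒳.p) (a := K.obj (Over.mk (𝟙 P.D))) (K.w_obj _)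
  have hiso : ∀ i, IsIso (pm i (𝟙 T)) := fun i => by
    haveI := hpm i (𝟙 T); exact isIso_of_isHomLift 𝒳.p (𝟙 T) _
  let ev : ∀ (i : Bool) {Z : Over S} (w : Z ⟶ T),
      (ofPoint (pick x₁ x₂ i)).obj (Over.mk w) ⟶ z.1 := fun i Z w =>
    (ψ i).inv.toNatTrans.app (Over.mk w) ≫ K.map (toId ((FibLib.overMap (P.inc i)).obj (Over.mk w)))
  have hev : ∀ (i : Bool) {Z : Over S} (w : Z ⟶ T), 𝒳.p.IsHomLift (w ≫ P.inc i) (ev i w) := fun i Z w =>
    lift_congr (Category.id_comp _) (comp_lift (f := 𝟙 Z) (BasedNatTrans.isHomLift (ψ i).inv (a := Over.mk w) rfl)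
      (lift_map K (toId ((FibLib.overMap (P.inc i)).obj (Over.mk w)))))
  let kk : ∀ i : Bool, (pick x₁ x₂ i).1 ⟶ z.1 := fun i =>
    haveI := hiso i
    inv (pm i (𝟙 T)) ≫ ev i (𝟙 T)
  have hkk : ∀ i, 𝒳.p.IsHomLift (P.inc i) (kk i) := fun i => by
    haveI := hiso i
    haveI := hpm i (𝟙 T)
    have h1 : 𝒳.p.IsHomLift (𝟙 T) (inv (pm i (𝟙 T))) :=
      @IsHomLift.lift_id_inv _ _ _ _ 𝒳.p _ _ _ (asIso (pm i (𝟙 T))) (hpm i (𝟙 T))
    exact lift_congr (by simp) (comp_lift h1 (hev i (𝟙 T)))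
  have eval : ∀ (i : Bool) (c : xv.1 ⟶ (pick x₁ x₂ i).1) (θi : xv.1 ⟶ (ofPoint (pick x₁ x₂ i)).obj (Over.mk j)),
      θi ≫ pm i j = c → c ≫ kk i = θi ≫ ev i j := by
    intro i c θi e
    haveI := hiso i
    let n : (Over.mk j : Over T) ⟶ Over.mk (𝟙 T) := toId (Over.mk j)
    have hn : (ofPoint (pick x₁ x₂ i)).map n ≫ pm i (𝟙 T) = pm i j :=
      pbMap_fac _ n.left (Over.w n)
    have nat : (ofPoint (pick x₁ x₂ i)).map n ≫ (ψ i).inv.toNatTrans.app (Over.mk (𝟙 T)) =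
        (ψ i).inv.toNatTrans.app (Over.mk j) ≫ K.map ((FibLib.overMap (P.inc i)).map n) :=
      (ψ i).inv.toNatTrans.naturality n
    rw [← e, ← hn]
    simp only [kk, ev, Category.assoc, IsIso.hom_inv_id_assoc]
    rw [reassoc_of% nat, ← K.toFunctor.map_comp, comp_toId]
  obtain ⟨θ₁, hθ₁, e₁⟩ := exists_fac (pm true j) (hpm true j) c₁ (lift_congr (Category.id_comp j).symm hc₁)
  obtain ⟨θ₂, hθ₂, e₂⟩ := exists_fac (pm false j) (hpm false j) c₂ (lift_congr (Category.id_comp j).symm hc₂)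
  refine ⟨z, kk true, kk false, hkk true, hkk false, ?_⟩
  refine (eval true c₁ θ₁ e₁).trans (Eq.trans ?_ (eval false c₂ θ₂ e₂).symm)
  have hθ12 : θ₁ ≫ θ true false j j P.comm = θ₂ := by
    refine eq_of_fac (hpm false j) (lift_congr (Category.id_comp _) (comp_lift hθ₁ (hθ true false _ _ _))) hθ₂ ?_
    rw [e₂, Category.assoc]
    refine Rel.unique (i := true) (s := θ₁ ≫ pm true j) hc₁ hc₂ ((hθr true false j j P.comm).comp θ₁) ?_
    exact ⟨𝟙 _, by rw [e₁]; exact Category.id_comp _, Category.id_comp _⟩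
  let k : Over.mk (j ≫ P.inc true) ⟶ Over.mk (j ≫ P.inc false) :=
    Over.homMk (𝟙 V) ((Category.id_comp _).trans P.comm.symm)
  have hc := hψ (i := true) (j := false) j j P.comm k rfl
  haveI : IsIso ((ψ false).hom.toNatTrans.app (Over.mk j)) :=
    ⟨(ψ false).inv.toNatTrans.app (Over.mk j), (appIso (ψ false) (Over.mk j)).hom_inv_id,
      (appIso (ψ false) (Over.mk j)).inv_hom_id⟩
  have hc' : (ψ true).inv.toNatTrans.app (Over.mk j) ≫ K.map k =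
      θ true false j j P.comm ≫ (ψ false).inv.toNatTrans.app (Over.mk j) := by
    rw [← cancel_mono ((ψ false).hom.toNatTrans.app (Over.mk j)), Category.assoc, hc, Category.assoc,
      show (ψ false).inv.toNatTrans.app (Over.mk j) ≫ (ψ false).hom.toNatTrans.app (Over.mk j) = 𝟙 _ from
        (appIso (ψ false) (Over.mk j)).inv_hom_id, Category.comp_id,
      ← Category.assoc, show (ψ true).inv.toNatTrans.app (Over.mk j) ≫ (ψ true).hom.toNatTrans.app (Over.mk j) = 𝟙 _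
        from (appIso (ψ true) (Over.mk j)).inv_hom_id, Category.id_comp]
  have ht : toId ((FibLib.overMap (P.inc true)).obj (Over.mk j)) =
      k ≫ toId ((FibLib.overMap (P.inc false)).obj (Over.mk j)) := (comp_toId k).symm
  simp only [ev]
  rw [ht]
  erw [K.toFunctor.map_comp, reassoc_of% hc', reassoc_of% hθ12]

end Dbl

end IsoNatSepLib
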