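import Groth.Agent.IsoNatSepLib.Main
import Groth.Agent.AlgStLib.Rows5
import Groth.Agent.AlgStLib.LocQ6
import Groth.Agent.AlgStLib.QcMor
import Groth.Agent.S10536

/-!
# Separatedness of morphisms transfers along isomorphic maps of presheaves of classes
-/

set_option autoImplicit false
set_option linter.style.haveILetI false
set_option backward.isDefEq.respectTransparency false
set_option backward.isDefEq.respectTransparency.types false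

universe u

open CategoryTheory CategoryTheory.Limits AlgebraicGeometry AlgSp FibCat FibLib AlgStLib IsoNat IsoNatLib
open CategoryTheory.Functor (Fiber IsPreFibered IsStronglyCartesian)

noncomputable section

namespace IsoNatSepLib

variable {S : Scheme.{u}} {𝒳 𝒴 𝒳' 𝒴' : AlgSt.Cat S}

/-- The diagonal is separated and quasi-compact. -/
theorem sepQc_diag [IsFibGrpd 𝒳.p] [IsFibGrpd 𝒴.p] (f : 𝒳 ⥤ᵇ 𝒴)
    (hX : AlgSt.RepByAlgSpWith (AlgSp.IsSeparatedMor ⊓ AlgSp.IsQuasiCompactMor) (FibCat.diag (FibCat.toSelf 𝒳)))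
    (hY : AlgSt.RepByAlgSpWith (AlgSp.IsSeparatedMor ⊓ AlgSp.IsQuasiCompactMor) (FibCat.diag (FibCat.toSelf 𝒴))) :
    AlgSt.RepByAlgSpWith (AlgSp.IsSeparatedMor ⊓ AlgSp.IsQuasiCompactMor) (FibCat.diag f) :=
  repByAlgSpWith_diag_of_comp (good_separated.inf good_qc).bc (repByAlgSpWith_diag_congr (compToSelfIso f) hX) hY
    fun _ _ _ h₁ h₂ h₃ _ _ hab hb =>
      ⟨AlgSpLib.isSeparatedMor_of_comp h₁ hab.1,
        (cancel_qcqs h₁ h₂ h₃ ⟨hab.2, AlgSpLib.isQuasiSeparatedMor_of_isSeparatedMor hab.1⟩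
          (AlgSpLib.isQuasiSeparatedMor_of_isSeparatedMor hb.1)).1⟩

theorem isSeparatedMor_of_fIsoSq (h𝒳 : AlgSt.IsAlgStack Scheme.fppfPrecoverage 𝒳)
    (h𝒴 : AlgSt.IsAlgStack Scheme.fppfPrecoverage 𝒴) (h𝒳' : AlgSt.IsAlgStack Scheme.fppfPrecoverage 𝒳')
    (h𝒳'd : AlgSt.RepByAlgSpWith (AlgSp.IsSeparatedMor ⊓ AlgSp.IsQuasiCompactMor)
      (FibCat.diag (FibCat.toSelf 𝒳')))
    (h𝒴' : AlgSt.IsAlgStack Scheme.fppfPrecoverage 𝒴')
    (h𝒴'd : AlgSt.RepByAlgSpWith (AlgSp.IsSeparatedMor ⊓ AlgSp.IsQuasiCompactMor)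
      (FibCat.diag (FibCat.toSelf 𝒴')))
    {f : 𝒳 ⥤ᵇ 𝒴} {f' : 𝒳' ⥤ᵇ 𝒴'} (φ : IsoNat.FIsoSq f f')
    (hft' : AlgSt.LocQ (AlgSp.LocP @LocallyOfFiniteType) f')
    (hN' : AlgSt.SmoothLocally (fun X => IsLocallyNoetherian X) 𝒴') (hf : AlgSt.IsSeparatedMor f) :
    AlgSt.IsSeparatedMor f' := by
  haveI := isFibGrpd_of_isAlgStack h𝒳
  haveI := isFibGrpd_of_isAlgStack h𝒴
  haveI := isFibGrpd_of_isAlgStack h𝒳'
  haveI := isFibGrpd_of_isAlgStack h𝒴'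
  haveI : IsFibGrpd (fp f' f').p := isFibGrpd_fp
  have hF : AlgSt.IsAlgStack Scheme.fppfPrecoverage (fp f' f') := isAlgStack_fp' h𝒳' h𝒳' h𝒴' f' f'
  have hNF := smoothLocally_noetherian_of_lft hF h𝒳' (fpFst f' f')
    (locQ_fpFst isSmoothLocalST_lft good_lft.bc h𝒳' h𝒴' h𝒳' f' f' hft')
    (smoothLocally_noetherian_of_lft h𝒳' h𝒴' f' hft' hN')
  obtain ⟨U, x, hx, hxs⟩ := hF.atlas
  haveI : IsLocallyNoetherian U.left := hNF U x hx
  let u : AlgSt.ofSch U ⥤ᵇ fp f' f' := BasedFunctor.comp (AlgSt.toOverCat U) x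
  let z : (fp f' f').p.Fiber U :=
    Fiber.mk (p := (fp f' f').p) (a := u.obj ⟨U, ⟨𝟙 U⟩⟩) (u.w_obj _)
  obtain ⟨α⟩ := IsoNatLib.nonempty_uf_iso u
  have hsm : AlgSt.RepByAlgSpWith (LocP @Smooth) (uf z) :=
    repByAlgSpWith_congr α.symm (repByAlgSpWith_toOverCat_comp hx)
  have hsu : AlgSt.RepByAlgSpWith IsSurjectiveMor (uf z) :=
    repByAlgSpWith_congr α.symm (repByAlgSpWith_toOverCat_comp hxs)
  have h0 := repByAlgSpWith_inf good_lft.bc.precomp_iso (sepQc_diag f' h𝒳'd h𝒴'd)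
    (repByAlgSpWith_lft_diag h𝒳' h𝒴' f')
  have hloc : IsLocalOnBase IsFppfCover (IsProperMor : MorphismProperty (Sp S)) :=
    isLocalOnBase_fppf_of_fpqc (Groth.Agent.S10536.result S)
  obtain ⟨H, a, hH, ⟨⟨hsep, hqc⟩, hlft⟩, ha, ⟨C⟩⟩ := exists_classifier h0 z
  have huc : IsUnivClosedMor a :=
    AlgSpLib.isUnivClosedMor_of_dvrLiftExt hH (IsAlgSpace.yon_obj U) ⟨hlft, hqc⟩
      ⟨U, 𝟙 _, AlgSpLib.repWith_of_isIso _, AlgSpLib.repWith_of_isIso _, ‹_›⟩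
      (dvrLiftExt_diag φ h𝒳.isStack h𝒳'.isStack h𝒴'.isStack h𝒴'd hf C)
  obtain ⟨e, he, hα⟩ := ha
  exact (repByAlgSpWith_iff_cover good_proper.bc hloc (repByAlgSp1_of_with h0)
    ⟨(yon S).obj U, IsAlgSpace.yon_obj U⟩ (w := uf z)
    (repByAlgSpWith_mono (fun _ _ _ _ _ h => locP_flat_of_smooth h) hsm)
    (repByAlgSpWith_mono (fun _ _ _ _ _ h => locP_lfp_of_smooth h) hsm) hsu).2
    ⟨⟨H, hH⟩, ObjectProperty.homMk a, e, he, hα, hsep, ⟨hlft, hqc⟩, huc⟩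

end IsoNatSepLib
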