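import Groth.Agent.IsoNatSepLib.Main
import Groth.Agent.IsoNatClean.Space
import Groth.Agent.AlgStLib.Rows5
import Groth.Agent.AlgStLib.LocQ6
import Groth.Agent.AlgStLib.QcMor
import Groth.Agent.S10536

/-!
# Properness of the inertia transfers along isomorphisms of presheaves of classes
-/

set_option autoImplicit false
set_option linter.style.haveILetI false
set_option backward.isDefEq.respectTransparency false
set_option backward.isDefEq.respectTransparency.types false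

universe u

open CategoryTheory CategoryTheory.Limits AlgebraicGeometry AlgSp FibCat FibLib AlgStLib IsoNat IsoNatLib
open CategoryTheory.Functor (Fiber IsPreFibered IsStronglyCartesian)

noncomputable section

namespace IsoNatSepLib

variable {S : Scheme.{u}} {𝒳 𝒴 : AlgSt.Cat S}

lemma cls_selfOver_eq {T : Over S} (c c' : IsoCl (selfOver (Over S) : AlgSt.Cat S) T) : c = c' := by
  induction c using Quotient.inductionOn with
  | _ x =>
    induction c' using Quotient.inductionOn with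
    | _ y => exact congrArg _ (Subtype.ext (x.2.trans y.2.symm))

/-- An isomorphism of presheaves of classes, as a square over the base. -/
def sqSelf (φ : FIso 𝒳 𝒴) : FIsoSq (toSelf 𝒳) (toSelf 𝒴) where
  src := φ
  tgt :=
    { toEquiv := fun _ => Equiv.refl _
      natural := fun _ x' x a ha => ⟨x', x, a, ha, rfl, rfl⟩ }
  comm _ _ := cls_selfOver_eq _ _

lemma map_vert' {T : Over S} {a b : 𝒳.obj} (ha : 𝒳.p.obj a = T) (k : a ⟶ a)
    (hk : 𝒳.p.IsHomLift (𝟙 T) k) : 𝒳.p.map k = 𝟙 (𝒳.p.obj a) := by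
  haveI := hk
  subst ha
  simpa using IsHomLift.fac' 𝒳.p (𝟙 (𝒳.p.obj a)) k

lemma vert_of_aut {T : Over S} (w : (inertia (toSelf 𝒳)).obj) (hw : 𝒳.p.obj w.pt = T) :
    𝒳.p.IsHomLift (𝟙 T) w.aut.hom := by
  subst hw
  exact IsHomLift.of_fac' 𝒳.p (𝟙 _) w.aut.hom rfl rfl (by
    have h : 𝒳.p.map w.aut.hom = 𝟙 _ := w.map_aut
    simp [h])

variable [IsFibGrpd 𝒳.p] [IsFibGrpd 𝒴.p]

/-- The base changes of the inertia satisfy the valuative criterion over discrete valuation rings. -/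
theorem dvrLiftExt_inertia (φ : FIso 𝒳 𝒴) (hX : Stk.IsStack (AlgSp.J S) 𝒳) (hY : Stk.IsStack (AlgSp.J S) 𝒴)
    (hS : Stk.IsStack (AlgSp.J S) (selfOver (Over S) : AlgSt.Cat S))
    (hpr : AlgSt.RepByAlgSpWith AlgSp.IsProperMor (FibCat.inertiaToBase (FibCat.toSelf 𝒳)))
    {U : Over S} {z : 𝒴.p.Fiber U} {H : Sp S} {aH : H ⟶ (yon S).obj U}
    (C : IsoNatLib.Classifier (inertiaToBase (toSelf 𝒴)) z aH) : AlgSpLib.DvrLiftExt aH := by
  haveI : IsFibGrpd (inertia (toSelf 𝒳)).p :=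
    FibLib.isFibGrpd_inertia (FibLib.preservesStronglyCartesian_of_isFibGrpd _)
  haveI : IsFibGrpd (inertia (toSelf 𝒴)).p :=
    FibLib.isFibGrpd_inertia (FibLib.preservesStronglyCartesian_of_isFibGrpd _)
  intro sq hA
  haveI := hA
  haveI : IsOpenImmersion sq.j.left := isOpenImmersion_fractions
  obtain ⟨E, hE⟩ := C.exists_elt sq.top
  obtain ⟨b, hb⟩ := (yon S).map_surjective sq.bot
  have hbase : E.base = sq.j ≫ b := (yon S).map_injective (by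
    rw [← C.cls_comp, hE, Functor.map_comp, hb]; exact sq.comm)
  obtain ⟨y, p, hp⟩ := exists_pullback b z
  let w : (inertia (toSelf 𝒴)).obj := E.obj.1
  have hwpt : 𝒴.p.obj w.pt = sq.ptK := E.obj.2
  let xv' : 𝒴.p.Fiber sq.ptK := Fiber.mk (p := 𝒴.p) (a := w.pt) hwpt
  let n : w.pt ⟶ z.1 := E.map
  have hn : 𝒴.p.IsHomLift E.base n := E.lift
  obtain ⟨c₁', hc₁', ec₁⟩ := exists_fac (a := w.pt) p hp n (lift_congr hbase hn)
  have haut : 𝒴.p.IsHomLift (𝟙 sq.ptK) w.aut.hom := vert_of_aut w hwpt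
  let c₂' : xv'.1 ⟶ y.1 := w.aut.hom ≫ c₁'
  have hc₂' : 𝒴.p.IsHomLift sq.j c₂' := lift_congr (Category.id_comp _) (comp_lift haut hc₁')
  have hrel' : (toSelf 𝒴).map c₁' ≫ 𝟙 _ = (toSelf 𝒴).map c₂' := by
    have h : (toSelf 𝒴).map w.aut.hom = 𝟙 _ := w.map_aut
    rw [show (toSelf 𝒴).map c₂' = (toSelf 𝒴).map w.aut.hom ≫ (toSelf 𝒴).map c₁' from
      (toSelf 𝒴).toFunctor.map_comp _ _, h, Category.comp_id]
    exact (Category.id_comp _).symm
  obtain ⟨x₁, x₂, xv, c₁, c₂, -, hc₁, hc₂, -, -, hx₁, hx₂, back⟩ :=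
    transfer (sqSelf φ) hX hY hS sq.j (x₁' := y) (x₂' := y) (xv' := xv') c₁' c₂' hc₁' hc₂' (𝟙 _)
      (IsHomLift.id (im (toSelf 𝒴) y).2) hrel'
  obtain ⟨i, hi⟩ := exists_vert_of_cls_eq ((φ.toEquiv sq.ptA).injective (hx₂.trans hx₁.symm))
  haveI := hi
  have hiinv : 𝒳.p.IsHomLift (𝟙 sq.ptA) i.inv := @IsHomLift.lift_id_inv _ _ _ _ 𝒳.p _ _ _ i hi
  obtain ⟨a, ha, ea⟩ := exists_fac (g := 𝟙 sq.ptK) c₁ hc₁ (c₂ ≫ i.hom)
    (lift_congr ((Category.comp_id sq.j).trans (Category.id_comp sq.j).symm) (comp_lift hc₂ hi))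
  haveI := ha
  haveI : IsIso a := isIso_of_isHomLift 𝒳.p (𝟙 sq.ptK) a
  let w₂ : (inertia (toSelf 𝒳)).obj := ⟨xv.1, asIso a, map_vert' (b := xv.1) xv.2 a ha⟩
  let E₂ : Elt (inertiaToBase (toSelf 𝒳)) x₁ sq.ptK :=
    ⟨sq.j, Fiber.mk (p := (inertia (toSelf 𝒳)).p) (a := w₂) xv.2, c₁, hc₁⟩
  obtain ⟨H₂, a₂, hH₂, hP₂, -, ⟨C₂⟩⟩ := exists_classifier hpr x₁
  let sq₂ : ValSq a₂ :=
    { A := sq.A, K := sq.K, str := sq.str, top := C₂.cls E₂, bot := 𝟙 _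
      comm := (C₂.cls_comp E₂).trans (Category.comp_id _).symm }
  have hA₂ : IsDiscreteValuationRing sq₂.A := hA
  obtain ⟨e, he, -, l, hl₁, hl₂⟩ := AlgSpLib.exists_dvr_finite_separable hH₂ (IsAlgSpace.yon_obj _)
    ((AlgSpLib.isDecentMor_props hH₂ (IsAlgSpace.yon_obj _) a₂).2
      (AlgSpLib.isQuasiSeparatedMor_of_isSeparatedMor hP₂.1)) hP₂.2.2 sq₂ hA₂
  haveI := he
  let q : e.ptA' ⟶ sq.ptA := Over.homMk (Spec.map (CommRingCat.ofHom e.φ)) rfl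
  let j' : e.ptK' ⟶ e.ptA' := Over.homMk (Spec.map (CommRingCat.ofHom (algebraMap e.A' e.K'))) rfl
  let ψo : e.ptK' ⟶ sq.ptK := Over.homMk (Spec.map (CommRingCat.ofHom e.ψ)) (by
    change Spec.map _ ≫ Spec.map _ ≫ _ = Spec.map _ ≫ Spec.map _ ≫ _
    rw [← Spec.map_comp_assoc, ← Spec.map_comp_assoc, ← CommRingCat.ofHom_comp, ← CommRingCat.ofHom_comp, e.comm])
  have hjq : j' ≫ q = ψo ≫ sq.j := Over.OverMorphism.ext (by
    change Spec.map _ ≫ Spec.map _ = Spec.map _ ≫ Spec.map _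
    rw [← Spec.map_comp, ← Spec.map_comp, ← CommRingCat.ofHom_comp, ← CommRingCat.ofHom_comp, e.comm])
  obtain ⟨El, hEl⟩ := C₂.exists_elt l
  have hlbase : El.base = q := (yon S).map_injective (by
    rw [← C₂.cls_comp, hEl]; exact hl₂.trans (Category.comp_id _))
  obtain ⟨E'', h''⟩ := exists_pullback_elt j' El
  have hcls : C₂.cls E'' = (yon S).map ψo ≫ C₂.cls E₂ := by
    rw [C₂.cls_map h'', hEl]; exact hl₁
  obtain ⟨e₀, he₀, ee₀⟩ := C₂.ehom_of_comp hcls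
  obtain ⟨d, hd, ed⟩ := h''
  let wl : (inertia (toSelf 𝒳)).obj := El.obj.1
  let w'' : (inertia (toSelf 𝒳)).obj := E''.obj.1
  let m : wl.pt ⟶ x₁.1 := El.map
  let d₀ : w'' ⟶ wl := d
  let e₁ : w'' ⟶ w₂ := e₀
  have hm : 𝒳.p.IsHomLift q m := lift_congr hlbase El.lift
  have hd₁ : d₀.hom ≫ m = e₁.hom ≫ c₁ := ed.trans ee₀.symm
  have hd₂ : d₀.hom ≫ wl.aut.hom ≫ m ≫ i.inv = e₁.hom ≫ c₂ := by
    rw [← Category.assoc d₀.hom, ← d₀.comm, Category.assoc, ← Category.assoc d₀.hom m, hd₁, Category.assoc,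
      ← Category.assoc w''.aut.hom, e₁.comm, Category.assoc]
    congr 1
    change a ≫ c₁ ≫ i.inv = c₂
    rw [← Category.assoc, ea, Category.assoc, Iso.hom_inv_id, Category.comp_id]
  haveI hj' : IsOpenImmersion j'.left := isOpenImmersion_fractions
  obtain ⟨x', w', k₁', k₂', d', e', hk₁', hk₂', hd', he', hd₁', hd₂'⟩ := back q j' ψo hj' hjq
    ⟨Fiber.mk (p := 𝒳.p) (a := wl.pt) El.obj.2, Fiber.mk (p := 𝒳.p) (a := w''.pt) E''.obj.2, m,
      wl.aut.hom ≫ m ≫ i.inv, d₀.hom, e₁.hom, hm,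
      lift_congr ((Category.id_comp _).trans (Category.comp_id q))
        (comp_lift (vert_of_aut wl El.obj.2) (comp_lift hm hiinv)),
      IsoNatClean.lift_of_inertia d₀ hd, IsoNatClean.lift_of_inertia e₁ he₀, hd₁, hd₂⟩
  obtain ⟨γ, hγ, eγ⟩ := exists_fac k₁' hk₁' k₂' (lift_congr (Category.id_comp q).symm hk₂')
  haveI := hγ
  haveI : IsIso γ := isIso_of_isHomLift 𝒴.p (𝟙 e.ptA') γ
  let wo : (inertia (toSelf 𝒴)).obj := ⟨x'.1, asIso γ, map_vert' (b := x'.1) x'.2 γ hγ⟩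
  let El' : Elt (inertiaToBase (toSelf 𝒴)) z e.ptA' :=
    ⟨q ≫ b, Fiber.mk (p := (inertia (toSelf 𝒴)).p) (a := wo) x'.2, k₁' ≫ p, comp_lift hk₁' hp⟩
  obtain ⟨Ew, h₁⟩ := exists_pullback_elt j' El'
  obtain ⟨d'', hd'', ed''⟩ := id h₁
  let ww : (inertia (toSelf 𝒴)).obj := Ew.obj.1
  let d₁ : ww ⟶ wo := d''
  obtain ⟨v, hv, ev⟩ := exists_fac (g := 𝟙 e.ptK') d' hd' d₁.hom
    (lift_congr (Category.id_comp j').symm (IsoNatClean.lift_of_inertia d₁ hd''))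
  let k : ww.pt ⟶ w.pt := v ≫ e'
  have hk : 𝒴.p.IsHomLift ψo k := lift_congr (Category.id_comp ψo) (comp_lift hv he')
  have hkc₁ : k ≫ c₁' = d₁.hom ≫ k₁' := by rw [Category.assoc, ← hd₁', ← Category.assoc, ev]
  have hkc₂ : k ≫ w.aut.hom ≫ c₁' = d₁.hom ≫ k₂' := by
    rw [Category.assoc, ← ev, Category.assoc]
    exact congrArg (v ≫ ·) hd₂'.symm
  have hcomm : ww.aut.hom ≫ k = k ≫ w.aut.hom := by
    refine eq_of_fac hc₁' (lift_congr (Category.id_comp ψo) (comp_lift (vert_of_aut ww Ew.obj.2) hk))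
      (lift_congr (Category.comp_id ψo) (comp_lift hk haut)) ?_
    rw [Category.assoc, hkc₁, ← Category.assoc, d₁.comm, Category.assoc, Category.assoc, hkc₂]
    exact congrArg (d₁.hom ≫ ·) eγ
  have h₂ : EHom ψo Ew E := by
    refine ⟨⟨k, hcomm⟩, IsoNatClean.inertia_lift _ hk, ?_⟩
    change k ≫ n = Ew.map
    rw [← ec₁, ← Category.assoc, hkc₁, Category.assoc]
    exact ed''
  let e₂ : sq.DomExt :=
    { A' := e.A', K' := e.K', φ := e.φ, ψ := e.ψ, comm := e.comm, isLocalHom := e.isLocalHom }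
  refine ⟨e₂, C.cls El', ?_, ?_⟩
  · exact ((C.cls_map h₁).symm.trans (C.cls_map h₂)).trans (congrArg ((yon S).map ψo ≫ ·) hE)
  · exact ((C.cls_comp El').trans (Functor.map_comp _ _ _)).trans (congrArg ((yon S).map q ≫ ·) hb)

/-- Properness of the inertia transfers. -/
theorem properInertia_of_fIso (h𝒳 : AlgSt.IsAlgStack Scheme.fppfPrecoverage 𝒳)
    (h𝒴 : AlgSt.IsAlgStack Scheme.fppfPrecoverage 𝒴)
    (h𝒴d : AlgSt.RepByAlgSpWith (AlgSp.IsSeparatedMor ⊓ AlgSp.IsQuasiCompactMor)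
      (FibCat.diag (FibCat.toSelf 𝒴)))
    (h𝒴i : AlgSt.RepByAlgSpWith (AlgSp.LocP @LocallyOfFinitePresentation)
      (FibCat.inertiaToBase (FibCat.toSelf 𝒴)))
    (hN : AlgSt.SmoothLocally (fun X => IsLocallyNoetherian X) 𝒴) (φ : IsoNat.FIso 𝒳 𝒴)
    (hpr : AlgSt.RepByAlgSpWith AlgSp.IsProperMor (FibCat.inertiaToBase (FibCat.toSelf 𝒳))) :
    AlgSt.RepByAlgSpWith AlgSp.IsProperMor (FibCat.inertiaToBase (FibCat.toSelf 𝒴)) := by
  haveI : IsFibGrpd (inertia (toSelf 𝒴)).p :=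
    FibLib.isFibGrpd_inertia (FibLib.preservesStronglyCartesian_of_isFibGrpd _)
  obtain ⟨U, x, hx, hxs⟩ := h𝒴.atlas
  haveI : IsLocallyNoetherian U.left := hN U x hx
  let u : AlgSt.ofSch U ⥤ᵇ 𝒴 := BasedFunctor.comp (AlgSt.toOverCat U) x
  let z : 𝒴.p.Fiber U := Fiber.mk (p := 𝒴.p) (a := u.obj ⟨U, ⟨𝟙 U⟩⟩) (u.w_obj _)
  obtain ⟨α⟩ := IsoNatLib.nonempty_uf_iso u
  have hsm : AlgSt.RepByAlgSpWith (LocP @Smooth) (uf z) :=
    repByAlgSpWith_congr α.symm (repByAlgSpWith_toOverCat_comp hx)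
  have hsu : AlgSt.RepByAlgSpWith IsSurjectiveMor (uf z) :=
    repByAlgSpWith_congr α.symm (repByAlgSpWith_toOverCat_comp hxs)
  have h0 := repByAlgSpWith_inf good_lft.bc.precomp_iso
    ((repByAlgSpWith_inertiaToBase_iff (toSelf 𝒴) _).2 (repByAlgSpWith_fpFst _ (diag (toSelf 𝒴)) h𝒴d))
    (repByAlgSpWith_mono (Q := LocP @LocallyOfFiniteType)
      (fun _ _ _ _ _ h => AlgSpLib.locP_mono (P := @LocallyOfFinitePresentation) (Q := @LocallyOfFiniteType) (fun _ _ f (hf : LocallyOfFinitePresentation f) => (inferInstance : LocallyOfFiniteType f)) h) h𝒴i)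
  have hloc : IsLocalOnBase IsFppfCover (IsProperMor : MorphismProperty (Sp S)) :=
    isLocalOnBase_fppf_of_fpqc (Groth.Agent.S10536.result S)
  obtain ⟨H, a, hH, ⟨⟨hsep, hqc⟩, hlft⟩, ha, ⟨C⟩⟩ := exists_classifier h0 z
  have huc : IsUnivClosedMor a :=
    AlgSpLib.isUnivClosedMor_of_dvrLiftExt hH (IsAlgSpace.yon_obj U) ⟨hlft, hqc⟩
      ⟨U, 𝟙 _, AlgSpLib.repWith_of_isIso _, AlgSpLib.repWith_of_isIso _, ‹_›⟩
      (dvrLiftExt_inertia φ h𝒳.isStack h𝒴.isStack isAlgStack_selfOver.isStack hpr C)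
  obtain ⟨e, he, hα⟩ := ha
  exact (repByAlgSpWith_iff_cover good_proper.bc hloc (repByAlgSp1_of_with h0)
    ⟨(yon S).obj U, IsAlgSpace.yon_obj U⟩ (w := uf z)
    (repByAlgSpWith_mono (fun _ _ _ _ _ h => locP_flat_of_smooth h) hsm)
    (repByAlgSpWith_mono (fun _ _ _ _ _ h => locP_lfp_of_smooth h) hsm) hsu).2
    ⟨⟨H, hH⟩, ObjectProperty.homMk a, e, he, hα, hsep, ⟨hlft, hqc⟩, huc⟩

end IsoNatSepLib
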