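import Groth.Agent.IsoNatSepLib.Transfer
import Groth.Agent.IsoNatLib.Elt
import Groth.Agent.IsoNatClean.Aut
import Groth.Agent.AlgSpLib.ValDvrExt
import Groth.Agent.AlgSpLib.DecentPoints
import Groth.Agent.AlgSpLib.MorPack

/-!
# The valuative criterion for the diagonal transfers along isomorphic maps of presheaves of classes
-/

set_option autoImplicit false
set_option linter.style.haveILetI false
set_option backward.isDefEq.respectTransparency false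
set_option backward.isDefEq.respectTransparency.types false

universe u

open CategoryTheory CategoryTheory.Limits AlgebraicGeometry AlgSp FibCat FibLib AlgStLib IsoNat IsoNatLib
open CategoryTheory.Functor (Fiber IsPreFibered IsStronglyCartesian)

noncomputable section

namespace IsoNatSepLib

variable {S : Scheme.{u}}

lemma lift_id_congr {𝒳 : AlgSt.Cat S} {A B : Over S} (e : A = B) {a b : 𝒳.obj} {φ : a ⟶ b}
    (h : 𝒳.p.IsHomLift (𝟙 A) φ) : 𝒳.p.IsHomLift (𝟙 B) φ := by subst e; exact h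

lemma isOpenImmersion_fractions {R K : Type u} [CommRing R] [IsDomain R] [IsDiscreteValuationRing R] [Field K]
    [Algebra R K] [IsFractionRing R K] : IsOpenImmersion (Spec.map (CommRingCat.ofHom (algebraMap R K))) := by
  obtain ⟨ϖ, hϖ⟩ := IsDiscreteValuationRing.exists_irreducible R
  haveI : IsLocalization.Away ϖ K := IsLocalization.Away.mk ϖ
    (IsUnit.mk0 _ (by simpa using hϖ.ne_zero))
    (fun z => by
      obtain ⟨⟨a, s⟩, hz⟩ := IsLocalization.surj (nonZeroDivisors R) z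
      obtain ⟨m, w, hw⟩ := IsDiscreteValuationRing.eq_unit_mul_pow_irreducible (nonZeroDivisors.coe_ne_zero s) hϖ
      refine ⟨m, a * ↑w⁻¹, ?_⟩
      rw [map_mul, ← hz, mul_assoc, ← map_mul, hw, mul_right_comm, Units.mul_inv, one_mul, map_pow])
    (fun a b h => ⟨0, by simpa using IsFractionRing.injective R K h⟩)
  exact IsOpenImmersion.of_isLocalization ϖ

lemma appTop_injective_of_injective {R K : Type u} [CommRing R] [CommRing K] (φ : R →+* K)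
    (h : Function.Injective φ) : Function.Injective (Spec.map (CommRingCat.ofHom φ)).appTop := by
  have e := Scheme.ΓSpecIso_naturality (CommRingCat.ofHom φ)
  intro x y hxy
  apply (ConcreteCategory.bijective_of_isIso (Scheme.ΓSpecIso (CommRingCat.of R)).hom).1
  apply h
  have hx := congrArg (fun f => f.hom x) e
  have hy := congrArg (fun f => f.hom y) e
  simp only [CommRingCat.hom_comp, RingHom.comp_apply, CommRingCat.hom_ofHom] at hx hy
  exact hx.symm.trans ((congrArg _ hxy).trans hy)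

/-- Morphisms over the same base which agree on a dense subscheme are equal. -/
theorem hom_eq_of_dominant {𝒴 : AlgSt.Cat S} [IsFibGrpd 𝒴.p]
    (hd : AlgSt.RepByAlgSpWith (AlgSp.IsSeparatedMor ⊓ AlgSp.IsQuasiCompactMor) (FibCat.diag (FibCat.toSelf 𝒴)))
    {T' T'' W : Over S} {g : T' ⟶ T''} [IsAffine T'.left] (u₀ : W ⟶ T')
    (hinj : Function.Injective u₀.left.appTop) {y₀ : 𝒴.p.Fiber W} {y : 𝒴.p.Fiber T'} {w : 𝒴.p.Fiber T''}
    {a b : y.1 ⟶ w.1} (ha : 𝒴.p.IsHomLift g a) (hb : 𝒴.p.IsHomLift g b) (u : y₀.1 ⟶ y.1)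
    (hu : 𝒴.p.IsHomLift u₀ u) (e : u ≫ a = u ≫ b) : a = b := by
  haveI : IsFibGrpd (fp (toSelf 𝒴) (toSelf 𝒴)).p := isFibGrpd_fp
  obtain ⟨θ, hθ, eθ⟩ := exists_fac b hb a (lift_congr (Category.id_comp g).symm ha)
  have hθu : u ≫ θ = u := eq_of_fac hb (lift_congr (Category.comp_id u₀) (comp_lift hu hθ)) hu
    (by rw [Category.assoc, eθ, e])
  let z : (fp (toSelf 𝒴) (toSelf 𝒴)).p.Fiber T' :=
    Fiber.mk (p := (fp (toSelf 𝒴) (toSelf 𝒴)).p) (a := (diag (toSelf 𝒴)).obj y.1)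
      (((diag (toSelf 𝒴)).w_obj y.1).trans y.2)
  obtain ⟨H, aH, -, hP, -, ⟨C⟩⟩ := exists_classifier hd z
  have hp : ∀ (t : y.1 ⟶ y.1), 𝒴.p.IsHomLift (𝟙 T') t → 𝒴.p.map t = 𝟙 (𝒴.p.obj y.1) := by
    intro t ht
    haveI := ht
    have := IsHomLift.fac' 𝒴.p (𝟙 T') t
    simpa using this
  have hw : ∀ (t : y.1 ⟶ y.1), 𝒴.p.IsHomLift (𝟙 T') t →
      (toSelf 𝒴).map t ≫ ((diag (toSelf 𝒴)).obj y.1).obj.iso.hom =
        ((diag (toSelf 𝒴)).obj y.1).obj.iso.hom ≫ (toSelf 𝒴).map (𝟙 y.1) := by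
    intro t ht
    change 𝒴.p.map t ≫ 𝟙 _ = 𝟙 _ ≫ 𝒴.p.map (𝟙 y.1)
    rw [hp t ht, CategoryTheory.Functor.map_id]
  let mt : ∀ (t : y.1 ⟶ y.1), 𝒴.p.IsHomLift (𝟙 T') t → ((diag (toSelf 𝒴)).obj y.1 ⟶ z.1) := fun t ht =>
    fpHom (x := (diag (toSelf 𝒴)).obj y.1) (y := (diag (toSelf 𝒴)).obj y.1) t (𝟙 y.1) (hw t ht)
  let E : ∀ (t : y.1 ⟶ y.1), 𝒴.p.IsHomLift (𝟙 T') t → Elt (diag (toSelf 𝒴)) z T' := fun t ht =>
    ⟨𝟙 T', y, mt t ht, by haveI : 𝒴.p.IsHomLift (𝟙 T') (mt t ht).hom.fst := ht; exact isHomLift_of_fst _ _⟩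
  have hid : 𝒴.p.IsHomLift (𝟙 T') (𝟙 y.1) := IsHomLift.id y.2
  let mW : (diag (toSelf 𝒴)).obj y₀.1 ⟶ z.1 := (diag (toSelf 𝒴)).map u
  let EW : Elt (diag (toSelf 𝒴)) z W :=
    ⟨u₀, y₀, mW, fun_lift (diag (toSelf 𝒴)) hu⟩
  have hE : ∀ (t : y.1 ⟶ y.1) (ht : 𝒴.p.IsHomLift (𝟙 T') t), u ≫ t = u → EHom u₀ EW (E t ht) := fun t ht et =>
    ⟨u, hu, fp_hom_ext et (Category.comp_id u)⟩
  have key : C.cls (E θ hθ) = C.cls (E (𝟙 _) hid) :=
    IsoNatClean.eq_of_dominant hP.1 u₀ hinj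
      ((C.cls_map (hE θ hθ hθu)).symm.trans (C.cls_map (hE (𝟙 _) hid (Category.comp_id u))))
      ((C.cls_comp (E θ hθ)).trans (C.cls_comp (E (𝟙 _) hid)).symm)
  obtain ⟨k, -, hk⟩ := C.ehom_of_eq key
  have h₁ : k ≫ 𝟙 y.1 = θ := congrArg (fun m => m.hom.fst) hk
  have h₂ : k ≫ 𝟙 y.1 = 𝟙 y.1 := congrArg (fun m => m.hom.snd) hk
  rw [← eθ, h₁.symm.trans h₂, Category.id_comp]

variable {𝒳 𝒴 𝒳' 𝒴' : AlgSt.Cat S} [IsFibGrpd 𝒳.p] [IsFibGrpd 𝒴.p] [IsFibGrpd 𝒳'.p] [IsFibGrpd 𝒴'.p]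
  {f : 𝒳 ⥤ᵇ 𝒴} {f' : 𝒳' ⥤ᵇ 𝒴'}

/-- The base changes of the diagonal satisfy the valuative criterion over discrete valuation rings. -/
theorem dvrLiftExt_diag (φ : FIsoSq f f') (hX : Stk.IsStack (AlgSp.J S) 𝒳)
    (hX' : Stk.IsStack (AlgSp.J S) 𝒳') (hY' : Stk.IsStack (AlgSp.J S) 𝒴')
    (hYd : AlgSt.RepByAlgSpWith (AlgSp.IsSeparatedMor ⊓ AlgSp.IsQuasiCompactMor) (FibCat.diag (FibCat.toSelf 𝒴')))
    (hf : AlgSt.IsSeparatedMor f) {U : Over S} {z' : (fp f' f').p.Fiber U} {H : Sp S} {aH : H ⟶ (yon S).obj U}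
    (C : IsoNatLib.Classifier (diag f') z' aH) : AlgSpLib.DvrLiftExt aH := by
  haveI : IsFibGrpd (fp f f).p := isFibGrpd_fp
  haveI : IsFibGrpd (fp f' f').p := isFibGrpd_fp
  intro sq hA
  haveI := hA
  haveI : IsOpenImmersion sq.j.left := isOpenImmersion_fractions
  obtain ⟨E, hE⟩ := C.exists_elt sq.top
  obtain ⟨b, hb⟩ := (yon S).map_surjective sq.bot
  have hbase : E.base = sq.j ≫ b := (yon S).map_injective (by
    rw [← C.cls_comp, hE, Functor.map_comp, hb]; exact sq.comm)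
  -- the objects over the valuation ring
  let Z₁ : 𝒳'.p.Fiber U := Fiber.mk (p := 𝒳'.p) (a := z'.1.obj.fst) z'.2
  let Z₂ : 𝒳'.p.Fiber U := Fiber.mk (p := 𝒳'.p) (a := z'.1.obj.snd) ((obj_snd_eq z'.1).trans z'.2)
  obtain ⟨x₁', p₁, hp₁⟩ := exists_pullback b Z₁
  obtain ⟨x₂', p₂, hp₂⟩ := exists_pullback b Z₂
  have hiso : 𝒴'.p.IsHomLift (𝟙 U) z'.1.obj.iso.hom := lift_id_congr z'.2 z'.1.property
  obtain ⟨β', hβ', eβ'⟩ := exists_fac (f'.map p₂) (fun_lift f' hp₂) (f'.map p₁ ≫ z'.1.obj.iso.hom)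
    (lift_congr ((Category.comp_id b).trans (Category.id_comp b).symm) (comp_lift (fun_lift f' hp₁) hiso))
  haveI := E.lift
  have he₁ : 𝒳'.p.IsHomLift E.base E.map.hom.fst := isHomLift_fst E.base E.map
  have he₂ : 𝒳'.p.IsHomLift E.base E.map.hom.snd := isHomLift_snd E.base E.map
  obtain ⟨c₁', hc₁', ec₁⟩ := exists_fac (a := E.obj.1) p₁ hp₁ E.map.hom.fst (lift_congr hbase he₁)
  obtain ⟨c₂', hc₂', ec₂⟩ := exists_fac (a := E.obj.1) p₂ hp₂ E.map.hom.snd (lift_congr hbase he₂)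
  have hrel' : f'.map c₁' ≫ β' = f'.map c₂' := by
    refine eq_of_fac (fun_lift f' hp₂) (lift_congr (Category.comp_id sq.j) (comp_lift (fun_lift f' hc₁') hβ'))
      (fun_lift f' hc₂') ?_
    rw [Category.assoc, eβ', ← Category.assoc, ← f'.toFunctor.map_comp, ← f'.toFunctor.map_comp, ec₁, ec₂]
    have w : f'.map E.map.hom.fst ≫ z'.1.obj.iso.hom = 𝟙 (f'.obj E.obj.1) ≫ f'.map E.map.hom.snd := E.map.hom.w
    exact w.trans (Category.id_comp _)
  obtain ⟨x₁, x₂, xv, c₁, c₂, β, hc₁, hc₂, hβ, hrel, -, -, back⟩ :=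
    transfer φ hX hX' hY' sq.j c₁' c₂' hc₁' hc₂' β' hβ' hrel'
  -- the problem for `f`
  obtain ⟨hiβ, -⟩ := vert_comp_iso hβ
  haveI := hiβ
  let o₂ : (fp f f).obj := fpObj x₁.1 x₂.1 (asIso β) (lift_id_congr x₁.2.symm hβ)
  let z₂ : (fp f f).p.Fiber sq.ptA := Fiber.mk (p := (fp f f).p) (a := o₂) x₁.2
  let m₂ : (diag f).obj xv.1 ⟶ z₂.1 := fpHom (x := (diag f).obj xv.1) (y := o₂) c₁ c₂
    (hrel.trans (Category.id_comp _).symm)
  let E₂ : Elt (diag f) z₂ sq.ptK :=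
    ⟨sq.j, xv, m₂, by haveI : 𝒳.p.IsHomLift sq.j m₂.hom.fst := hc₁; exact isHomLift_of_fst _ _⟩
  obtain ⟨H₂, a₂, hH₂, hP₂, -, ⟨C₂⟩⟩ := exists_classifier hf z₂
  let sq₂ : ValSq a₂ :=
    { A := sq.A, K := sq.K, str := sq.str, top := C₂.cls E₂, bot := 𝟙 _
      comm := (C₂.cls_comp E₂).trans (Category.comp_id _).symm }
  have hA₂ : IsDiscreteValuationRing sq₂.A := hA
  obtain ⟨e, he, -, l, hl₁, hl₂⟩ := AlgSpLib.exists_dvr_finite_separable hH₂ (IsAlgSpace.yon_obj _)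
    ((AlgSpLib.isDecentMor_props hH₂ (IsAlgSpace.yon_obj _) a₂).2
      (AlgSpLib.isQuasiSeparatedMor_of_isSeparatedMor hP₂.1)) hP₂.2.2 sq₂ hA₂
  haveI := he
  let q : e.ptA' ⟶ sq.ptA := Over.homMk (Spec.map (CommRingCat.ofHom e.φ)) rfl
  let j' : e.ptK' ⟶ e.ptA' := Over.homMk (Spec.map (CommRingCat.ofHom (algebraMap e.A' e.K'))) rfl
  let ψo : e.ptK' ⟶ sq.ptK := Over.homMk (Spec.map (CommRingCat.ofHom e.ψ)) (by
    change Spec.map _ ≫ Spec.map _ ≫ _ = Spec.map _ ≫ Spec.map _ ≫ _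
    rw [← Spec.map_comp_assoc, ← Spec.map_comp_assoc, ← CommRingCat.ofHom_comp, ← CommRingCat.ofHom_comp, e.comm])
  have hjq : j' ≫ q = ψo ≫ sq.j := Over.OverMorphism.ext (by
    change Spec.map _ ≫ Spec.map _ = Spec.map _ ≫ Spec.map _
    rw [← Spec.map_comp, ← Spec.map_comp, ← CommRingCat.ofHom_comp, ← CommRingCat.ofHom_comp, e.comm])
  obtain ⟨El, hEl⟩ := C₂.exists_elt l
  have hlbase : El.base = q := (yon S).map_injective (by
    rw [← C₂.cls_comp, hEl]; exact hl₂.trans (Category.comp_id _))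
  obtain ⟨E'', h''⟩ := exists_pullback_elt j' El
  have hcls : C₂.cls E'' = (yon S).map ψo ≫ C₂.cls E₂ := by
    rw [C₂.cls_map h'', hEl]; exact hl₁
  obtain ⟨e₀, he₀, ee₀⟩ := C₂.ehom_of_comp hcls
  obtain ⟨d, hd, ed⟩ := h''
  haveI := El.lift
  have hk₁ : 𝒳.p.IsHomLift q El.map.hom.fst := lift_congr hlbase (isHomLift_fst El.base El.map)
  have hk₂ : 𝒳.p.IsHomLift q El.map.hom.snd := lift_congr hlbase (isHomLift_snd El.base El.map)
  have hd₁ : d ≫ El.map.hom.fst = e₀ ≫ c₁ :=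
    (congrArg (fun m => m.hom.fst) ed).trans (congrArg (fun m => m.hom.fst) ee₀).symm
  have hd₂ : d ≫ El.map.hom.snd = e₀ ≫ c₂ :=
    (congrArg (fun m => m.hom.snd) ed).trans (congrArg (fun m => m.hom.snd) ee₀).symm
  haveI hj' : IsOpenImmersion j'.left := isOpenImmersion_fractions
  obtain ⟨x', w', k₁', k₂', d', e', hk₁', hk₂', hd', he', hd₁', hd₂'⟩ := back q j' ψo hj' hjq
    ⟨El.obj, E''.obj, El.map.hom.fst, El.map.hom.snd, d, e₀, hk₁, hk₂, hd, he₀, hd₁, hd₂⟩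
  -- compatibility with `β'`
  have hfk : f'.map k₁' ≫ β' = f'.map k₂' := by
    haveI : IsAffine e.ptA'.left := inferInstanceAs (IsAffine (Spec (CommRingCat.of e.A')))
    refine hom_eq_of_dominant hYd (y₀ := im f' w') (y := im f' x') (w := im f' x₂') j'
      (appTop_injective_of_injective _ (IsFractionRing.injective e.A' e.K'))
      (lift_congr (Category.comp_id q) (comp_lift (fun_lift f' hk₁') hβ')) (fun_lift f' hk₂') (f'.map d')
      (fun_lift f' hd') ?_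
    rw [← Category.assoc, ← f'.toFunctor.map_comp, hd₁', f'.toFunctor.map_comp, Category.assoc, hrel',
      ← f'.toFunctor.map_comp, ← f'.toFunctor.map_comp, hd₂']
  -- the lift
  have hw : f'.map (k₁' ≫ p₁) ≫ z'.1.obj.iso.hom = 𝟙 (f'.obj x'.1) ≫ f'.map (k₂' ≫ p₂) := by
    rw [Category.id_comp, f'.toFunctor.map_comp, Category.assoc, ← eβ', ← Category.assoc, hfk, ← f'.toFunctor.map_comp]
  let m' : (diag f').obj x'.1 ⟶ z'.1 :=
    fpHom (x := (diag f').obj x'.1) (y := z'.1) (k₁' ≫ p₁) (k₂' ≫ p₂) hw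
  let El' : Elt (diag f') z' e.ptA' :=
    ⟨q ≫ b, x', m', by
      haveI : 𝒳'.p.IsHomLift (q ≫ b) m'.hom.fst := comp_lift hk₁' hp₁
      exact isHomLift_of_fst _ _⟩
  let Ew : Elt (diag f') z' e.ptK' :=
    ⟨j' ≫ q ≫ b, w', (diag f').map d' ≫ m', comp_lift (fun_lift (diag f') hd') El'.lift⟩
  have h₁ : EHom j' Ew El' := ⟨d', hd', rfl⟩
  have h₂ : EHom ψo Ew E := ⟨e', he', fp_hom_ext
    ((congrArg (e' ≫ ·) ec₁.symm).trans (((Category.assoc _ _ _).symm.trans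
      (congrArg (· ≫ p₁) hd₁'.symm)).trans (Category.assoc _ _ _)))
    ((congrArg (e' ≫ ·) ec₂.symm).trans (((Category.assoc _ _ _).symm.trans
      (congrArg (· ≫ p₂) hd₂'.symm)).trans (Category.assoc _ _ _)))⟩
  let e₁ : sq.DomExt :=
    { A' := e.A', K' := e.K', φ := e.φ, ψ := e.ψ, comm := e.comm, isLocalHom := e.isLocalHom }
  refine ⟨e₁, C.cls El', ?_, ?_⟩
  · exact ((C.cls_map h₁).symm.trans (C.cls_map h₂)).trans (congrArg ((yon S).map ψo ≫ ·) hE)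
  · exact ((C.cls_comp El').trans (Functor.map_comp _ _ _)).trans (congrArg ((yon S).map q ≫ ·) hb)

end IsoNatSepLib
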